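import Groth.Agent.S16491
import Groth.Agent.ReflexLib.Ops
import Groth.Agent.RefHullLib.Generic
import Groth.Agent.CurveVBLib.Basic
import Groth.Agent.StabLib.Simple
import Groth.Agent.StableSepLib.Main
import Groth.Agent.GenusOneSSLib.Basic
import Groth.Agent.CurveVBLib.Abelian
import Groth.Agent.HomCohLib.Coh

/-!
# Kernels and endomorphisms of locally free modules
-/

set_option autoImplicit false
set_option linter.style.haveILetI false
universe u

open CategoryTheory CategoryTheory.Limits AlgebraicGeometry TopologicalSpace Opposite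
open DevissLib CurvLib CurveVBLib QCohLib

noncomputable section

namespace VBPnLib

variable {X : Scheme.{u}} [IsIntegral X] [IsLocallyNoetherian X]

/-- A torsion free coherent module of generic rank zero vanishes. -/
theorem isZero_of_rank_zero {n : ℕ} {E F : X.Modules} (hE : FlatMod.IsFinLocFreeOfRank n E) (i : F ⟶ E)
    [Mono i] (hF : Coh.IsCoh F) (h : genRank F = 0) : IsZero F := by
  haveI := hF.1
  refine DevissLib.isZero_of_support_empty (Set.eq_empty_iff_forall_notMem.mpr fun x hx => hx ?_)
  haveI : NoZeroSMulDivisors (X.presheaf.stalk x) (F.presheaf.stalk x) := torsionFree_of_mono hE i x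
  haveI : Module.IsTorsionFree (X.presheaf.stalk x) (F.presheaf.stalk x) := inferInstance
  have hη : genericPoint X ⤳ x := RefHullLib.specializes_generic x
  haveI := isNoetherian_stalk hF (genericPoint X)
  letI : Field (X.presheaf.stalk (genericPoint X)) := (inferInstance : Field X.functionField)
  haveI : Module.Finite (X.presheaf.stalk (genericPoint X)) (F.presheaf.stalk (genericPoint X)) :=
    inferInstanceAs (Module.Finite _ ((St (genericPoint X)).obj F))
  haveI : Subsingleton (F.presheaf.stalk (genericPoint X)) := Module.finrank_zero_iff.mp h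
  exact (RefHullLib.injective_stalkSpecializes_generic F x hη).subsingleton

theorem seq_kernel {A B : X.Modules} (φ : A ⟶ B) (hA : Coh.IsCoh A) (hB : Coh.IsCoh B) :
    Coh.IsCoh (kernel φ) ∧ Coh.IsCoh (Abelian.image φ) ∧
      genRank A = genRank (kernel φ) + genRank (Abelian.image φ) := by
  have hC := QCohLib.isCoh_cokernel φ hA.1 hB
  have hI : Coh.IsCoh (Abelian.image φ) := QCohLib.isCoh_kernel _ hB hC.1
  have hK := QCohLib.isCoh_kernel φ hA hB.1
  refine ⟨hK, hI, ?_⟩
  let S : ShortComplex X.Modules := ShortComplex.mk (kernel.ι φ) (Abelian.factorThruImage φ) (by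
    rw [← cancel_mono (Abelian.image.ι φ), Category.assoc, Abelian.image.fac, kernel.condition, zero_comp])
  have hS : S.ShortExact :=
    { exact := by
        refine ShortComplex.exact_of_f_is_kernel _ (KernelFork.IsLimit.ofι' _ _ fun {W} g hg => ?_)
        have hg' : g ≫ φ = 0 := by
          rw [← Abelian.image.fac φ, ← Category.assoc, show g ≫ Abelian.factorThruImage φ = 0 from hg, zero_comp]
        exact ⟨kernel.lift φ g hg', kernel.lift_ι _ _ _⟩
      mono_f := inferInstanceAs (Mono (kernel.ι φ))
      epi_g := inferInstanceAs (Epi (Abelian.factorThruImage φ)) }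
  exact genRank_add (S := S) hS hK hA hI

theorem one_le_rank_image {m : ℕ} {A B : X.Modules} (hA : Coh.IsCoh A) (hB : FlatMod.IsFinLocFreeOfRank m B)
    {φ : A ⟶ B} (hφ : φ ≠ 0) : 1 ≤ genRank (Abelian.image φ) := by
  by_contra h
  obtain ⟨-, hI, -⟩ := seq_kernel φ hA (CurvLib.isCoh_of_locFree hB)
  have hz := isZero_of_rank_zero hB (Abelian.image.ι φ) hI (by omega)
  exact hφ (by rw [← Abelian.image.fac φ, hz.eq_of_src (Abelian.image.ι φ) 0, comp_zero])

/-- A nonzero map out of a line bundle into a bundle is injective. -/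
theorem mono_of_line {n : ℕ} {A B : X.Modules} (hA : FlatMod.IsFinLocFreeOfRank 1 A)
    (hB : FlatMod.IsFinLocFreeOfRank n B) {ψ : A ⟶ B} (hψ : ψ ≠ 0) : Mono ψ := by
  have hAc := CurvLib.isCoh_of_locFree hA
  obtain ⟨hK, -, hrk⟩ := seq_kernel ψ hAc (CurvLib.isCoh_of_locFree hB)
  have h1 := one_le_rank_image hAc hB hψ
  rw [genRank_eq hA] at hrk
  have hz := isZero_of_rank_zero hA (kernel.ι ψ) hK (by omega)
  exact Preadditive.mono_of_cancel_zero _ fun g hg => by
    rw [← kernel.lift_ι ψ g hg, hz.eq_of_tgt (kernel.lift ψ g hg) 0, zero_comp]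

/-- A kernel of rank one between bundles on a regular scheme is invertible. -/
theorem isInvertible_kernel (hreg : ∀ x : X, IsRegularLocalRing (X.presheaf.stalk x)) {n m : ℕ} {E F : X.Modules}
    (hE : FlatMod.IsFinLocFreeOfRank n E) (hF : FlatMod.IsFinLocFreeOfRank m F) (φ : E ⟶ F)
    (h1 : genRank (kernel φ) = 1) : PicF.IsInvertible (kernel φ) := by
  have hEc := CurvLib.isCoh_of_locFree hE
  have hFc := CurvLib.isCoh_of_locFree hF
  have hK := QCohLib.isCoh_kernel φ hEc hFc.1
  have hrefl : RefHull.IsReflexive (kernel φ) := (RefHullLib.isReflexive_iff hK).2 fun x => by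
    haveI := hreg x
    obtain ⟨eE⟩ := nonempty_stalk_pi_of_locFree hE x
    obtain ⟨eF⟩ := nonempty_stalk_pi_of_locFree hF x
    haveI : Module.Free (X.presheaf.stalk x) ((St x).obj E) := Module.Free.of_equiv eE.symm
    haveI : Module.Finite (X.presheaf.stalk x) ((St x).obj E) := Module.Finite.equiv eE.symm
    haveI : Module.Finite (X.presheaf.stalk x) ((St x).obj F) := Module.Finite.equiv eF.symm
    haveI : Module.IsTorsionFree (X.presheaf.stalk x) ((St x).obj F) :=
      Function.Injective.moduleIsTorsionFree eF eF.injective fun r v => map_smul eF r v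
    haveI : Module.Finite (X.presheaf.stalk x) ((kernel φ).presheaf.stalk x) :=
      haveI := hK.1
      DepthLib.finite_stalk (kernel φ) hK.2 x
    let S : ShortComplex X.Modules := ShortComplex.mk (kernel.ι φ) φ (kernel.condition φ)
    have hS : S.Exact := ShortComplex.exact_of_f_is_kernel _ (kernelIsKernel φ)
    have hSx := hS.map (St x)
    exact ReflexLib.isReflexive_of_exact ((St x).map (kernel.ι φ)).hom ((St x).map φ).hom
      ((ModuleCat.mono_iff_injective _).1 inferInstance)
      ((CategoryTheory.ShortComplex.ShortExact.moduleCat_exact_iff_function_exact _).1 hSx)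
  have hflat : FlatMod.IsFlat (kernel φ) := fun x => by
    haveI := hreg x
    haveI := Groth.Agent.S16491.free_stalk hK hrefl h1 x
    exact (inferInstance : Module.Flat (X.presheaf.stalk x) ((kernel φ).presheaf.stalk x))
  have hfl := CurveVBLib.rank_genRank
    (Groth.Agent.S1688.isFinLocFree_of_isFP_of_flat (QCohLib.isFP_of_isCoh _ hK) hflat)
  rw [h1] at hfl
  exact Groth.Agent.S16491.isInvertible_of_rank_one hfl

end VBPnLib

namespace VBPnLib

variable {X : Scheme.{u}} {k : Type u} [Field k] [X.Over (Spec (CommRingCat.of k))]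

/-- A section of the sheaf of homomorphisms gives a homomorphism, linearly. -/
def shL (M P : X.Modules) : (Coh.structureModule X ⟶ CohCmpLib.homMod M P) →ₗ[k] (M ⟶ P) where
  toFun σ := Formal2VBLib.sh (σ.app ⊤ (GenusOneSSLib.oneS X))
  map_add' σ τ := by
    rw [← Formal2VBLib.sh_add]
    rfl
  map_smul' c σ := by
    rw [KLin.smul_app_apply, RingHom.id_apply]
    refine (Formal2VBLib.sh_smul _ _).trans ?_
    rw [KLin.comp_smulModΓ, KLin.smul_def]
    refine congrArg (· ≫ _) (congrArg (Formal.smulModΓ M) ?_)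
    have : (homOfLE (le_top : (⊤ : X.Opens) ≤ ⊤)).op = 𝟙 _ := rfl
    rw [this, X.presheaf.map_id]
    rfl

theorem shL_surjective (M P : X.Modules) : Function.Surjective (shL (k := k) M P) := fun f =>
  ⟨QCohLib.unitHom _ (Formal2VBLib.oh f), by
    change Formal2VBLib.sh _ = f
    rw [GenusOneSSLib.unitHom_top, Formal2VBLib.sh_oh]⟩

variable [IsProper (X ↘ Spec (CommRingCat.of k))]

/-- Homomorphisms of bundles on a proper scheme form a finite dimensional space. -/
theorem finite_hom {n m : ℕ} {M P : X.Modules} (hM : FlatMod.IsFinLocFreeOfRank n M)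
    (hP : FlatMod.IsFinLocFreeOfRank m P) : Module.Finite k (M ⟶ P) := by
  haveI := CurvLib.isNoetherian k (X := X)
  have hc : Coh.IsCoh (CohCmpLib.homMod M P) :=
    HomCohLib.isCoh_homMod (CurvLib.isCoh_of_locFree hM) (CurvLib.isCoh_of_locFree hP)
  haveI := CurvLib.finite_HH (k := k) hc 0
  haveI : Module.Finite k (Coh.structureModule X ⟶ CohCmpLib.homMod M P) :=
    Module.Finite.equiv (GenusOneSSLib.homEquiv (k := k) _).symm
  exact Module.Finite.of_surjective (shL (k := k) M P) (shL_surjective M P)

include k in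
/-- An endomorphism which is not an automorphism is annihilated from the left by a nonzero one. -/
theorem exists_comp_eq_zero [IsIntegral X] {n : ℕ} {E : X.Modules} (hE : FlatMod.IsFinLocFreeOfRank n E)
    (ψ : E ⟶ E) (hψ : ¬ IsIso ψ) : ∃ θ : E ⟶ E, θ ≠ 0 ∧ θ ≫ ψ = 0 := by
  by_contra h
  push Not at h
  haveI := CurvLib.isNoetherian k (X := X)
  haveI := finite_hom (k := k) hE hE
  let T : (E ⟶ E) →ₗ[k] (E ⟶ E) := Linear.rightComp k E ψ
  have hT : Function.Injective T := (injective_iff_map_eq_zero T).2 fun θ hθ => by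
    by_contra hne
    exact h θ hne hθ
  obtain ⟨θ, hθ⟩ := LinearMap.injective_iff_surjective.1 hT (𝟙 E)
  change θ ≫ ψ = 𝟙 E at hθ
  haveI : Epi ψ := epi_of_epi_fac hθ
  have hEc := CurvLib.isCoh_of_locFree hE
  obtain ⟨hK, hI, hr⟩ := seq_kernel ψ hEc hEc
  haveI : Mono (Abelian.image.ι ψ) := inferInstance
  haveI : Epi (Abelian.image.ι ψ) := epi_of_epi_fac (Abelian.image.fac ψ)
  haveI : IsIso (Abelian.image.ι ψ) := isIso_of_mono_of_epi _
  have hI' : genRank (Abelian.image ψ) = genRank E := by
    have h2 := genRank_mono (Abelian.image.ι ψ) hI hEc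
    rw [genRank_of_isZero (isZero_cokernel_of_epi (Abelian.image.ι ψ))] at h2
    omega
  have hz := isZero_of_rank_zero hE (kernel.ι ψ) hK (by omega)
  haveI : Mono ψ := Preadditive.mono_of_cancel_zero _ fun g hg => by
    rw [← kernel.lift_ι ψ g hg, hz.eq_of_tgt (kernel.lift ψ g hg) 0, zero_comp]
  exact hψ (isIso_of_mono_of_epi ψ)

end VBPnLib

end
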