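import Groth.Agent.VBPnLib.Basic
import Groth.Agent.S1697
import Groth.Agent.S0843
import Groth.Agent.PicPnLib.Twist
import Groth.Agent.GenusZeroLib.Apps
import Groth.Agent.ProjDegLib.Criterion
import Groth.Agent.VBP1Lib.Tensor

/-!
# Maps from twists on projective space
-/

set_option autoImplicit false
set_option linter.style.haveILetI false
universe u

open CategoryTheory CategoryTheory.Limits AlgebraicGeometry TopologicalSpace Opposite
open DevissLib CurvLib CurveVBLib QCohLib

noncomputable section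

namespace VBPnLib

variable (k : Type u) [Field k] (n : ℕ)

local notation "P" => CohB1.ProjSpace n k
local notation "O'" => Twist.twistProjSpace n k

instance isProper_pn : IsProper (P ↘ Spec (CommRingCat.of k)) := ProjDegLib.toSpec_isProper k n

instance smooth_pn : Smooth (P ↘ Spec (CommRingCat.of k)) := GenusZeroLib.smooth_toSpec n k

instance isIntegral_pn : IsIntegral P := GenusZeroLib.isIntegral_projSpace k n

instance isLocallyNoetherian_pn : IsLocallyNoetherian P :=
  haveI := CurvLib.isNoetherian k (X := P)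
  inferInstance

theorem regular_pn (x : P) : IsRegularLocalRing ((CohB1.ProjSpace n k).presheaf.stalk x) :=
  CurveVBLib.regular_stalk (k := k) x

theorem twist_rank (a : ℤ) : FlatMod.IsFinLocFreeOfRank 1 (O' a) :=
  CurvLib.locFree_of_isInvertible (PicPnLib.twist_inv n k a)

theorem isEquivalence_twist (d : ℤ) : (CurvLib.tensorLeft' (O' d)).IsEquivalence := by
  obtain ⟨e⟩ := PicPnLib.twist_add n k d (-d)
  obtain ⟨e0⟩ := PicPnLib.twist_zero n k
  exact VBP1Lib.isEquivalence_tensor (e ≪≫ eqToIso (congrArg O' (add_neg_cancel d)) ≪≫ e0)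

theorem subsingleton_hom {X : Scheme.{u}} [X.Over (Spec (CommRingCat.of k))] (M : X.Modules)
    (h : Subsingleton (Coh.HH X M 0)) : Subsingleton (Coh.structureModule X ⟶ M) :=
  (GenusOneSSLib.homEquiv (k := k) M).toEquiv.subsingleton

theorem hom_eq_zero_of_h0 (M : (CohB1.ProjSpace n k).Modules) (j : ℤ)
    (h : Subsingleton (Coh.HH P (CohB1.tensorMod M (O' j)) 0)) (s : O' (-j) ⟶ M) : s = 0 := by
  haveI := isEquivalence_twist k n j
  haveI : (CurvLib.tensorLeft' (O' j)).Additive := Functor.additive_of_preserves_binary_products _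
  obtain ⟨e⟩ := PicPnLib.twist_add n k j (-j)
  obtain ⟨e0⟩ := PicPnLib.twist_zero n k
  let a : (CurvLib.tensorLeft' (O' j)).obj (O' (-j)) ≅ Coh.structureModule P :=
    e ≪≫ eqToIso (congrArg O' (add_neg_cancel j)) ≪≫ e0
  let sw : (CurvLib.tensorLeft' (O' j)).obj M ≅ CohB1.tensorMod M (O' j) := KFlatLib.tensSwap M (O' j)
  haveI := subsingleton_hom k _ h
  refine (CurvLib.tensorLeft' (O' j)).map_injective ?_
  rw [Functor.map_zero, ← cancel_epi a.inv, ← cancel_mono sw.hom]
  exact Subsingleton.elim _ _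

theorem exists_hom_of_h0 (M : (CohB1.ProjSpace n k).Modules) (j : ℤ)
    (h : ¬ Subsingleton (Coh.HH P (CohB1.tensorMod M (O' j)) 0)) : ∃ s : O' (-j) ⟶ M, s ≠ 0 := by
  haveI := isEquivalence_twist k n j
  haveI : (CurvLib.tensorLeft' (O' j)).Additive := Functor.additive_of_preserves_binary_products _
  obtain ⟨e⟩ := PicPnLib.twist_add n k j (-j)
  obtain ⟨e0⟩ := PicPnLib.twist_zero n k
  let a : (CurvLib.tensorLeft' (O' j)).obj (O' (-j)) ≅ Coh.structureModule P :=
    e ≪≫ eqToIso (congrArg O' (add_neg_cancel j)) ≪≫ e0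
  let sw : (CurvLib.tensorLeft' (O' j)).obj M ≅ CohB1.tensorMod M (O' j) := KFlatLib.tensSwap M (O' j)
  haveI := not_subsingleton_iff_nontrivial.mp h
  obtain ⟨y, hy⟩ := exists_ne (0 : Coh.HH P (CohB1.tensorMod M (O' j)) 0)
  obtain ⟨s, hs⟩ := (CurvLib.tensorLeft' (O' j)).map_surjective
    (a.hom ≫ (GenusOneSSLib.homEquiv (k := k) _).symm y ≫ sw.inv)
  refine ⟨s, fun h0 => hy ((GenusOneSSLib.homEquiv (k := k) _).symm.map_eq_zero_iff.mp ?_)⟩
  rw [h0, Functor.map_zero] at hs
  rw [← cancel_epi a.hom, ← cancel_mono sw.inv, comp_zero, zero_comp, Category.assoc]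
  exact hs.symm

theorem exists_twist_hom {a b : ℤ} (hab : a ≤ b) : ∃ u : O' a ⟶ O' b, u ≠ 0 := by
  obtain ⟨d, rfl⟩ : ∃ d : ℕ, b = a + d := ⟨(b - a).toNat, by omega⟩
  obtain ⟨e⟩ := PicPnLib.twist_add n k (a + d) (-a)
  obtain ⟨r⟩ := Groth.Agent.S0843.result k n d
  have hne : ¬ Subsingleton (Coh.HH P (O' d) 0) := fun hss => by
    haveI := hss
    haveI : Subsingleton ↥(MvPolynomial.homogeneousSubmodule (Fin (n + 1)) k d) := r.symm.toEquiv.subsingleton
    have h := congrArg (fun q : ↥(MvPolynomial.homogeneousSubmodule (Fin (n + 1)) k d) =>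
      MvPolynomial.coeff (Finsupp.single (0 : Fin (n + 1)) d) (q : MvPolynomial (Fin (n + 1)) k))
      (Subsingleton.elim (⟨MvPolynomial.X 0 ^ d, MvPolynomial.isHomogeneous_X_pow 0 d⟩ :
        ↥(MvPolynomial.homogeneousSubmodule (Fin (n + 1)) k d)) 0)
    simp [MvPolynomial.coeff_X_pow] at h
  obtain ⟨s, hs⟩ := exists_hom_of_h0 k n (O' (a + d)) (-a) (fun hss => hne (by
    haveI := hss
    exact (CurvLib.hIso (k := k) (e ≪≫ eqToIso (congrArg O' (by ring))) 0).symm.toEquiv.subsingleton))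
  exact ⟨eqToHom (congrArg O' (neg_neg a)).symm ≫ s, fun h => hs (by
    rwa [← cancel_epi (eqToHom (congrArg O' (neg_neg a)).symm), comp_zero])⟩

/-- No maps from high twists when a normalised twist has no sections. -/
theorem hom_eq_zero_of_le {r : ℕ} {E : (CohB1.ProjSpace n k).Modules} (hE : FlatMod.IsFinLocFreeOfRank r E) (j : ℤ)
    (h : Subsingleton (Coh.HH P (CohB1.tensorMod E (O' j)) 0)) {a : ℤ} (ha : -j ≤ a) (s : O' a ⟶ E) : s = 0 := by
  by_contra hs
  obtain ⟨u, hu⟩ := exists_twist_hom k n ha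
  haveI := mono_of_line (twist_rank k n a) hE hs
  exact hu (by rw [← cancel_mono s, zero_comp]; exact hom_eq_zero_of_h0 k n E j h _)

end VBPnLib

end
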