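import Groth.Agent.DetDegLib.Main
import Groth.Agent.CohCmpLib.OmegaRank
import Groth.Agent.TwistLib.HomGlue
import Groth.Agent.PnCohLib.FlatSections
import Groth.Agent.GenusZeroLib.Mult
import Groth.Agent.CurvLib.Line

/-!
# From a functional to a map out of the determinant
-/

set_option autoImplicit false
set_option linter.style.haveILetI false
universe u

open CategoryTheory CategoryTheory.Limits AlgebraicGeometry TopologicalSpace Opposite
open DevissLib CurvLib
open AmpleLib (shT GenAt GenOn res shT_res)
open GenusZeroLib (shT_add_left shT_add_right)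

noncomputable section

namespace VBPnLib

variable {X : Scheme.{u}} {E M L : X.Modules}

theorem shT_smul_left {A B : X.Modules} {W : X.Opens} (r : Γ(X, W)) (m : Γ(A, W)) (n : Γ(B, W)) :
    shT (r • m) n = r • shT m n := by
  have := AmpleLib.shT_smul r 1 m n
  rwa [one_smul, mul_one] at this

theorem shT_smul_right {A B : X.Modules} {W : X.Opens} (r : Γ(X, W)) (m : Γ(A, W)) (n : Γ(B, W)) :
    shT m (r • n) = r • shT m n := by
  have := AmpleLib.shT_smul 1 r m n
  rwa [one_smul, one_mul] at this

/-- `(e₀, e₁) ↦ e₀ ⊗ t e₁ - e₁ ⊗ t e₀`. -/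
def tau (t : E ⟶ M) (V : X.Opens) :
    (E.val.obj (op V)) [⋀^Fin 2]→ₗ[Γ(X, V)] ((CohB1.tensorMod E M).val.obj (op V)) :=
  AlternatingMap.mk (MultilinearMap.mk'
      (fun v : Fin 2 → Γ(E, V) =>
        (shT (v 0) (t.app V (v 1)) - shT (v 1) (t.app V (v 0)) : Γ(CohB1.tensorMod E M, V)))
      (fun v i a b => by
        fin_cases i
        · show shT (Function.update v 0 (a + b) 0) (t.app V (Function.update v 0 (a + b) 1)) -
              shT (Function.update v 0 (a + b) 1) (t.app V (Function.update v 0 (a + b) 0)) =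
            (shT (Function.update v 0 a 0) (t.app V (Function.update v 0 a 1)) -
              shT (Function.update v 0 a 1) (t.app V (Function.update v 0 a 0))) +
            (shT (Function.update v 0 b 0) (t.app V (Function.update v 0 b 1)) -
              shT (Function.update v 0 b 1) (t.app V (Function.update v 0 b 0)))
          simp only [Function.update_self, Function.update_of_ne (show (1 : Fin 2) ≠ 0 by decide)]
          erw [shT_add_left, map_add, shT_add_right]
          abel
        · show shT (Function.update v 1 (a + b) 0) (t.app V (Function.update v 1 (a + b) 1)) -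
              shT (Function.update v 1 (a + b) 1) (t.app V (Function.update v 1 (a + b) 0)) =
            (shT (Function.update v 1 a 0) (t.app V (Function.update v 1 a 1)) -
              shT (Function.update v 1 a 1) (t.app V (Function.update v 1 a 0))) +
            (shT (Function.update v 1 b 0) (t.app V (Function.update v 1 b 1)) -
              shT (Function.update v 1 b 1) (t.app V (Function.update v 1 b 0)))
          simp only [Function.update_self, Function.update_of_ne (show (0 : Fin 2) ≠ 1 by decide)]
          erw [shT_add_left, map_add, shT_add_right]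
          abel)
      (fun v i r a => by
        fin_cases i
        · show shT (Function.update v 0 (r • a) 0) (t.app V (Function.update v 0 (r • a) 1)) -
              shT (Function.update v 0 (r • a) 1) (t.app V (Function.update v 0 (r • a) 0)) =
            r • (shT (Function.update v 0 a 0) (t.app V (Function.update v 0 a 1)) -
              shT (Function.update v 0 a 1) (t.app V (Function.update v 0 a 0)))
          simp only [Function.update_self, Function.update_of_ne (show (1 : Fin 2) ≠ 0 by decide)]
          erw [shT_smul_left, QCohLib.app_smul, shT_smul_right]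
          exact (smul_sub r _ _).symm
        · show shT (Function.update v 1 (r • a) 0) (t.app V (Function.update v 1 (r • a) 1)) -
              shT (Function.update v 1 (r • a) 1) (t.app V (Function.update v 1 (r • a) 0)) =
            r • (shT (Function.update v 1 a 0) (t.app V (Function.update v 1 a 1)) -
              shT (Function.update v 1 a 1) (t.app V (Function.update v 1 a 0)))
          simp only [Function.update_self, Function.update_of_ne (show (0 : Fin 2) ≠ 1 by decide)]
          erw [shT_smul_left, QCohLib.app_smul, shT_smul_right]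
          exact (smul_sub r _ _).symm))
    (fun v i j hv hij => by
      fin_cases i <;> fin_cases j <;> simp at hij
      · show shT (v 0) (t.app V (v 1)) - shT (v 1) (t.app V (v 0)) = 0
        rw [show v 0 = v 1 from hv, sub_self]
      · show shT (v 0) (t.app V (v 1)) - shT (v 1) (t.app V (v 0)) = 0
        rw [show v 1 = v 0 from hv, sub_self])

theorem tau_apply (t : E ⟶ M) (V : X.Opens) (v : Fin 2 → Γ(E, V)) :
    (tau t V v : Γ(CohB1.tensorMod E M, V)) = shT (v 0) (t.app V (v 1)) - shT (v 1) (t.app V (v 0)) := rfl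

theorem tau_res (t : E ⟶ M) {U V : X.Opens} (h : V ≤ U) (v : Fin 2 → Γ(E, U)) :
    res (CohB1.tensorMod E M) h (tau t U v : Γ(CohB1.tensorMod E M, U)) =
      (tau t V fun i => E.presheaf.map (homOfLE h).op (v i) : Γ(CohB1.tensorMod E M, V)) := by
  rw [tau_apply, tau_apply]
  refine (map_sub ((CohB1.tensorMod E M).presheaf.map (homOfLE h).op).hom _ _).trans ?_
  refine congr_arg₂ (· - ·) ?_ ?_ <;>
  · refine (shT_res h _ _).trans (congrArg (shT _) ?_)
    exact (QCohLib.app_map t _ _).symm

variable (φ : ∀ U : X.affineOpens, (L.val.obj (op U.1)) ≃ₗ[Γ(X, U.1)] ↥(⋀[Γ(X, U.1)]^2 (E.val.obj (op U.1))))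

/-- The induced map on the sections of the determinant over an affine open. -/
def sigma (t : E ⟶ M) (U : X.affineOpens) :
    (L.val.obj (op U.1)) →ₗ[Γ(X, U.1)] ((CohB1.tensorMod E M).val.obj (op U.1)) :=
  (exteriorPower.alternatingMapLinearEquiv (tau t U.1)).comp (φ U).toLinearMap

theorem sigma_wsec (t : E ⟶ M) (U : X.affineOpens) (e : Fin 2 → Γ(E, U.1)) :
    sigma φ t U (DetDegLib.wsec φ U e) = tau t U.1 e := by
  rw [sigma, LinearMap.comp_apply]
  refine (congrArg _ ((φ U).apply_symm_apply _)).trans ?_
  exact exteriorPower.alternatingMapLinearEquiv_apply_ιMulti _ _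

/-- A nonzero functional on a bundle of rank two gives a nonzero map out of its determinant. -/
theorem exists_mu [IsIntegral X] [IsLocallyNoetherian X] (hE : FlatMod.IsFinLocFreeOfRank 2 E) (hM : PicF.IsInvertible M)
    (hL : ExtPow.IsExtPow 2 E L) {t : E ⟶ M} (ht : t ≠ 0) :
    ∃ μ : L ⟶ CohB1.tensorMod E M, μ ≠ 0 := by
  classical
  obtain ⟨φ, hφ⟩ := hL
  haveI : Coh.IsQCoh E := (CurvLib.isCoh_of_locFree hE).1
  have hg : ∀ x : X, ∃ (V : X.affineOpens) (_ : x ∈ V.1) (b : Fin 2 → Γ(E, V.1)) (g : Γ(M, V.1)),
      GenOn M g ∧ ∀ (y : X) (hy : y ∈ V.1), DetDegLib.FrameAt E b hy := fun x => by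
    obtain ⟨U, σ, hxU, hσ⟩ := TwistLib.exists_genOn hM x
    obtain ⟨V, hV, hxV, hVU⟩ := exists_isAffineOpen_mem_and_subset hxU
    obtain ⟨b, hb⟩ := DetDegLib.exists_frame_at hE hV hxV
    obtain ⟨h, hxh, hh⟩ := DetDegLib.exists_frame_basicOpen hE hV b hxV hb
    refine ⟨⟨X.basicOpen h, hV.basicOpen h⟩, hxh, _, res M ((X.basicOpen_le h).trans hVU) σ, hσ.res _,
      fun y hy => (DetDegLib.frameAt_res (X.basicOpen_le h) b hy).mpr (hh y hy)⟩
  choose V hV b g hgen hb using hg
  let D : X → X.Opens := fun x => (V x).1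
  let e : ∀ x, Γ(L, D x) := fun x => DetDegLib.wsec φ (V x) (b x)
  let f : ∀ x, Γ(CohB1.tensorMod E M, D x) := fun x => tau t (V x).1 (b x)
  have hcov : ∀ x : X, ∃ a, x ∈ D a := fun x => ⟨x, hV x⟩
  have hge : ∀ a, GenOn L (e a) := fun a =>
    TwistLib.genOn_of_genAt fun _ hy => DetDegLib.frameAt_wsec φ hφ (V a) (b a) (hb a) hy
  have compat : ∀ (a c' : X) (W : X.Opens) (ha : W ≤ D a) (hc : W ≤ D c') (c : Γ(X, W)),
      c • res L ha (e a) = res L hc (e c') →
      c • res (CohB1.tensorMod E M) ha (f a) = res (CohB1.tensorMod E M) hc (f c') := by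
    intro a c' W ha hc c h
    refine TwistLib.mod_ext _ fun y hy => ?_
    obtain ⟨V', hV', hyV', hV'W⟩ := exists_isAffineOpen_mem_and_subset hy
    let A : X.affineOpens := ⟨V', hV'⟩
    rw [← AmpleLib.germ_res (CohB1.tensorMod E M) (show V' ≤ W from hV'W) _ hyV',
      ← AmpleLib.germ_res (CohB1.tensorMod E M) (show V' ≤ W from hV'W) (res _ hc _) hyV']
    congr 1
    rw [AmpleLib.res_smul, AmpleLib.res_res, AmpleLib.res_res]
    have h' := congrArg (res L (show V' ≤ W from hV'W)) h
    rw [AmpleLib.res_smul, AmpleLib.res_res, AmpleLib.res_res] at h'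
    have r1 : res L (hV'W.trans ha) (e a) =
        DetDegLib.wsec φ A (fun j => E.presheaf.map (homOfLE (hV'W.trans ha)).op (b a j)) :=
      DetDegLib.wsec_res φ hφ (V a) A _ _
    have r2 : res L (hV'W.trans hc) (e c') =
        DetDegLib.wsec φ A (fun j => E.presheaf.map (homOfLE (hV'W.trans hc)).op (b c' j)) :=
      DetDegLib.wsec_res φ hφ (V c') A _ _
    rw [r1, r2] at h'
    have h'' := congrArg (sigma φ t A) h'
    erw [map_smul, sigma_wsec, sigma_wsec] at h''
    rw [show res _ (hV'W.trans ha) (f a) = _ from tau_res t (hV'W.trans ha) (b a),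
      show res _ (hV'W.trans hc) (f c') = _ from tau_res t (hV'W.trans hc) (b c')]
    exact h''
  obtain ⟨μ, hμ⟩ := TwistLib.exists_hom_of_gens D e f hcov hge compat
  refine ⟨μ, fun h0 => ht (CurvLib.eq_zero_of_stalks t fun x => ?_)⟩
  have hf : f x = 0 := by rw [← hμ x, h0]; rfl
  choose c hc using fun i => (hgen x (V x).1 le_rfl).2 (t.app _ (b x i))
  simp only [AmpleLib.res_refl] at hc
  have h1 : shT (c 1 • b x 0 - c 0 • b x 1) (g x) = (0 : Γ(CohB1.tensorMod E M, (V x).1)) := by
    have e0 : (shT (b x 0) (c 1 • g x) - shT (b x 1) (c 0 • g x) : Γ(CohB1.tensorMod E M, (V x).1)) = 0 := by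
      rw [hc 1, hc 0]; exact hf
    rw [shT_smul_right, shT_smul_right, ← shT_smul_left, ← shT_smul_left] at e0
    exact (map_sub (PnCohLib.shTLin (M := E) (g x)) _ _).trans e0
  have h2 : c 1 • b x 0 - c 0 • b x 1 = 0 :=
    PnCohLib.shT_right_injective (hgen x) (h1.trans (map_zero (PnCohLib.shTLin (M := E) (g x))).symm)
  have h3 := (DetDegLib.frame_bijective (V x).2 (b x) (hb x)).1 (a₁ := ![c 1, -c 0]) (a₂ := 0) (by
    simp [Fin.sum_univ_two, ← sub_eq_add_neg, h2])
  have h4 : ∀ i, t.app (V x).1 (b x i) = 0 := fun i => by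
    have hci : c i = 0 := by
      fin_cases i
      · simpa using congrFun h3 1
      · simpa using congrFun h3 0
    rw [← hc i, hci, zero_smul]
  refine LinearMap.ext fun v => ?_
  obtain ⟨a, rfl⟩ := (hb x x (hV x)).2 v
  rw [map_sum, LinearMap.zero_apply]
  refine Finset.sum_eq_zero fun i _ => ?_
  rw [map_smul, gm_app, h4, gm_zero, smul_zero]

end VBPnLib

end
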