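import Groth.Agent.VBPnLib.Wedge
import Groth.Agent.Formal2VBLib.Sections
import Groth.Agent.CohCmpLib.HomFrame

/-!
# From a line in a bundle of rank two to a functional
-/

set_option autoImplicit false
set_option linter.style.haveILetI false
universe u

open CategoryTheory CategoryTheory.Limits AlgebraicGeometry TopologicalSpace Opposite
open DevissLib CurvLib
open AmpleLib (shT GenAt GenOn res shT_res)

noncomputable section

namespace VBPnLib

variable {X : Scheme.{u}} {E M L : X.Modules}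
  (φ : ∀ U : X.affineOpens, (L.val.obj (op U.1)) ≃ₗ[Γ(X, U.1)] ↥(⋀[Γ(X, U.1)]^2 (E.val.obj (op U.1))))

/-- `m ↦ w (σ ∧ m)`. -/
def wed1 (w : L ⟶ CohB1.tensorMod M M) (U : X.affineOpens) (σ : Γ(E, U.1)) :
    (E.val.obj (op U.1)) →ₗ[Γ(X, U.1)] ((CohB1.tensorMod M M).val.obj (op U.1)) :=
  ({ toFun := fun v : L.val.obj (op U.1) => (w.app U.1 (show Γ(L, U.1) from v) : Γ(CohB1.tensorMod M M, U.1))
     map_add' := fun a b => map_add (w.app U.1).hom (show Γ(L, U.1) from a) (show Γ(L, U.1) from b)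
     map_smul' := fun r a => QCohLib.app_smul w U.1 r (show Γ(L, U.1) from a) } :
      (L.val.obj (op U.1)) →ₗ[Γ(X, U.1)] ((CohB1.tensorMod M M).val.obj (op U.1))).comp
    ((φ U).symm.toLinearMap.comp
      ((exteriorPower.ιMulti Γ(X, U.1) 2 (M := E.val.obj (op U.1))).toMultilinearMap.toLinearMap ![σ, 0] 1))

theorem wed1_apply (w : L ⟶ CohB1.tensorMod M M) (U : X.affineOpens) (σ m : Γ(E, U.1)) :
    (wed1 φ w U σ m : Γ(CohB1.tensorMod M M, U.1)) = w.app U.1 (DetDegLib.wsec φ U ![σ, m]) := by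
  change w.app U.1 ((φ U).symm (exteriorPower.ιMulti Γ(X, U.1) 2 (Function.update ![σ, 0] 1 m))) = _
  refine congrArg (fun v : Fin 2 → E.val.obj (op U.1) => w.app U.1 ((φ U).symm (exteriorPower.ιMulti Γ(X, U.1) 2 v))) ?_
  funext i
  fin_cases i
  · exact Function.update_of_ne (by decide) _ _
  · exact Function.update_self _ _ _

theorem wed1_res (hφ : ∀ (U V : X.affineOpens) (h : V.1 ≤ U.1) (e : Fin 2 → E.val.obj (op U.1)),
      L.val.map (homOfLE h).op ((φ U).symm (exteriorPower.ιMulti _ 2 e)) =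
        (φ V).symm (exteriorPower.ιMulti _ 2 (fun j => E.val.map (homOfLE h).op (e j))))
    (w : L ⟶ CohB1.tensorMod M M) (U V : X.affineOpens) (h : V.1 ≤ U.1) (σ m : Γ(E, U.1)) :
    res (CohB1.tensorMod M M) h (wed1 φ w U σ m : Γ(CohB1.tensorMod M M, U.1)) =
      (wed1 φ w V (res E h σ) (res E h m) : Γ(CohB1.tensorMod M M, V.1)) := by
  refine (congrArg (res _ h) (wed1_apply φ w U σ m)).trans (Eq.trans ?_ (wed1_apply φ w V _ _).symm)
  refine (QCohLib.app_map w (homOfLE h) _).symm.trans (congrArg (w.app V.1) ?_)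
  refine (DetDegLib.wsec_res φ hφ U V h _).trans (congrArg (DetDegLib.wsec φ V) (funext fun l => ?_))
  fin_cases l <;> rfl

theorem wed1_smul_left (w : L ⟶ CohB1.tensorMod M M) (U : X.affineOpens) (r : Γ(X, U.1)) (σ m : Γ(E, U.1)) :
    (wed1 φ w U (r • σ) m : Γ(CohB1.tensorMod M M, U.1)) = r • (wed1 φ w U σ m : Γ(CohB1.tensorMod M M, U.1)) := by
  refine (wed1_apply φ w U _ _).trans (Eq.trans ?_ (congrArg (r • ·) (wed1_apply φ w U σ m)).symm)
  refine Eq.trans ?_ (QCohLib.app_smul w U.1 r _)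
  refine congrArg (w.app U.1) ?_
  refine Eq.trans ?_ (map_smul (φ U).symm r (exteriorPower.ιMulti Γ(X, U.1) 2 (M := E.val.obj (op U.1)) ![σ, m]))
  refine congrArg (φ U).symm ?_
  classical
  have h2 := MultilinearMap.map_update_smul (exteriorPower.ιMulti Γ(X, U.1) 2 (M := E.val.obj (op U.1))).toMultilinearMap (![σ, m] : Fin 2 → E.val.obj (op U.1)) (0 : Fin 2) r (σ : E.val.obj (op U.1))
  refine Eq.trans ?_ (h2.trans (congrArg (r • ·) (congrArg (exteriorPower.ιMulti Γ(X, U.1) 2) ?_)))
  · refine congrArg (exteriorPower.ιMulti Γ(X, U.1) 2) (funext fun l => ?_)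
    fin_cases l <;> simp [Function.update] <;> rfl
  · exact Function.update_eq_self (0 : Fin 2) (![σ, m] : Fin 2 → E.val.obj (op U.1))

theorem wed1_two (w : L ⟶ CohB1.tensorMod M M) (U : X.affineOpens) (σ : Γ(E, U.1)) (r : Fin 2 → Γ(X, U.1))
    (m : Fin 2 → Γ(E, U.1)) :
    (wed1 φ w U σ (∑ j, r j • m j : Γ(E, U.1)) : Γ(CohB1.tensorMod M M, U.1)) =
      r 0 • (wed1 φ w U σ (m 0) : Γ(CohB1.tensorMod M M, U.1)) + r 1 • (wed1 φ w U σ (m 1) : Γ(CohB1.tensorMod M M, U.1)) := by
  rw [Fin.sum_univ_two]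
  exact (map_add (wed1 φ w U σ) _ _).trans (congr_arg₂ (· + ·) (map_smul (wed1 φ w U σ) (r 0) _) (map_smul (wed1 φ w U σ) (r 1) _))

omit φ in
/-- A nonzero map from a line into a bundle of rank two gives a nonzero map to a line whose square receives the determinant. -/
theorem exists_nu [IsIntegral X] [IsLocallyNoetherian X] (hE : FlatMod.IsFinLocFreeOfRank 2 E) (hM : PicF.IsInvertible M) (hL : ExtPow.IsExtPow 2 E L)
    {s : M ⟶ E} (hs : s ≠ 0) (w : L ⟶ CohB1.tensorMod M M) [Mono w] :
    ∃ t : E ⟶ M, t ≠ 0 := by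
  classical
  obtain ⟨φ, hφ⟩ := hL
  haveI : Coh.IsQCoh E := (CurvLib.isCoh_of_locFree hE).1
  have hg : ∀ x : X, ∃ (V : X.affineOpens) (_ : x ∈ V.1) (b : Fin 2 → Γ(E, V.1)) (g : Γ(M, V.1)),
      GenOn M g ∧ ∀ (y : X) (hy : y ∈ V.1), DetDegLib.FrameAt E b hy := fun x => by
    obtain ⟨U, σ, hxU, hσ⟩ := TwistLib.exists_genOn hM x
    obtain ⟨V, hV, hxV, hVU⟩ := exists_isAffineOpen_mem_and_subset hxU
    obtain ⟨b, hb⟩ := DetDegLib.exists_frame_at hE hV hxV
    obtain ⟨h, hxh, hh⟩ := DetDegLib.exists_frame_basicOpen hE hV b hxV hb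
    refine ⟨⟨X.basicOpen h, hV.basicOpen h⟩, hxh, _, res M ((X.basicOpen_le h).trans hVU) σ, hσ.res _,
      fun y hy => (DetDegLib.frameAt_res (X.basicOpen_le h) b hy).mpr (hh y hy)⟩
  choose V hV b g hgen hb using hg
  let D : X → X.Opens := fun x => (V x).1
  have hfr : ∀ x, ProjFormLib.IsFrame E (b x) := fun x y hy => hb x y hy
  have hc : ∀ x i, ∃ c : Γ(X, D x), c • shT (g x) (g x) =
      (wed1 φ w (V x) (s.app _ (g x)) (b x i) : Γ(CohB1.tensorMod M M, D x)) := fun x i => by
    obtain ⟨c, hc⟩ := (AmpleThLib.shT_genOn (hgen x) (hgen x) (V x).1 le_rfl).2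
      (wed1 φ w (V x) (s.app _ (g x)) (b x i) : Γ(CohB1.tensorMod M M, D x))
    simp only [AmpleLib.res_refl] at hc
    exact ⟨c, hc⟩
  choose c hc using hc
  choose h hh using fun x => CohCmpLib.exists_hom_of_frame (P := M) (hfr x) (le_refl (D x)) fun i => c x i • g x
  have glue : ∀ (a a' : X) (y : X) (ha : y ∈ D a) (ha' : y ∈ D a'),
      CohCmpLib.hVal (h a) y ha = CohCmpLib.hVal (h a') y ha' := by
    intro a a' y ha ha'
    obtain ⟨V', hV', hyV', hle⟩ := exists_isAffineOpen_mem_and_subset (show y ∈ D a ⊓ D a' from ⟨ha, ha'⟩)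
    let A : X.affineOpens := ⟨V', hV'⟩
    have la : A.1 ≤ D a := le_trans hle inf_le_left
    have la' : A.1 ≤ D a' := le_trans hle inf_le_right
    have hfa : ∀ (x : X) (lx : A.1 ≤ D x) (z : X) (hz : z ∈ A.1),
        DetDegLib.FrameAt E (fun i => E.presheaf.map (homOfLE lx).op (b x i)) hz := fun x lx z hz =>
      (DetDegLib.frameAt_res lx (b x) hz).mpr (hb x z (lx hz))
    refine ((hfr a).basis y ha).ext fun i => ?_
    rw [ProjFormLib.IsFrame.basis_apply, hh]
    obtain ⟨r, hr⟩ := (DetDegLib.frame_bijective A.2 _ (hfa a' la')).2 (E.presheaf.map (homOfLE la).op (b a i))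
    dsimp only at hr
    -- the value predicted by the chart at `a'`
    have key : X.presheaf.map (homOfLE la).op (c a i) • res M la (g a) =
        (∑ j, (r j * X.presheaf.map (homOfLE la').op (c a' j)) • res M la' (g a') : Γ(M, A.1)) := by
      obtain ⟨u, hu⟩ := (hgen a' A.1 la').2 (res M la (g a))
      dsimp only at hu
      have e1 : ∀ (x : X) (lx : A.1 ≤ D x) (j : Fin 2), X.presheaf.map (homOfLE lx).op (c x j) • shT (res M lx (g x)) (res M lx (g x)) =
          (wed1 φ w A (s.app _ (res M lx (g x))) (res E lx (b x j)) : Γ(CohB1.tensorMod M M, A.1)) := by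
        intro x lx j
        have h' := congrArg (res (CohB1.tensorMod M M) lx) (hc x j)
        rw [AmpleLib.res_smul, AmpleLib.shT_res] at h'
        refine h'.trans ((wed1_res φ hφ w (V x) A lx _ _).trans ?_)
        rw [show res E lx (s.app (V x).1 (g x)) = s.app A.1 (res M lx (g x)) from (QCohLib.app_map s (homOfLE lx) _).symm]
      have ea := e1 a la i
      rw [show res E la (b a i) = (∑ j, r j • res E la' (b a' j) : Γ(E, A.1)) from hr.symm, wed1_two] at ea
      rw [← hu] at ea ⊢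
      have e2 : ∀ j, (wed1 φ w A (s.app _ (u • res M la' (g a'))) (res E la' (b a' j)) : Γ(CohB1.tensorMod M M, A.1)) =
          (u * X.presheaf.map (homOfLE la').op (c a' j)) • shT (res M la' (g a')) (res M la' (g a')) := fun j => by
        rw [mul_smul, e1 a' la' j, QCohLib.app_smul]
        exact wed1_smul_left φ w A u _ _
      rw [e2 0, e2 1, AmpleLib.shT_smul, smul_smul] at ea
      erw [smul_smul, smul_smul, ← add_smul] at ea
      have e3 : X.presheaf.map (homOfLE la).op (c a i) * (u * u) =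
          r 0 * (u * X.presheaf.map (homOfLE la').op (c a' 0)) + r 1 * (u * X.presheaf.map (homOfLE la').op (c a' 1)) := by
        refine (AmpleThLib.shT_genOn (hgen a') (hgen a') A.1 la').1 ?_
        dsimp only
        rw [AmpleLib.shT_res]
        exact ea
      rw [smul_smul, ← Finset.sum_smul, Fin.sum_univ_two]
      have hu' : IsUnit u := by
        obtain ⟨v, hv⟩ := (hgen a A.1 la).2 (res M la' (g a'))
        dsimp only at hv
        rw [← hu, smul_smul] at hv
        exact IsUnit.of_mul_eq_one v (mul_comm u v ▸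
          (hgen a' A.1 la').1 (a₁ := v * u) (a₂ := 1) (hv.trans (one_smul _ _).symm))
      refine congrArg (· • _) (hu'.mul_left_cancel ?_)
      linear_combination e3
    have hbi : ProjFormLib.ger E y ha (b a i) =
        ∑ j, X.presheaf.germ A.1 y hyV' (r j) • ProjFormLib.ger E y ha' (b a' j) := by
      rw [← ProjFormLib.ger_res E la y hyV', show ProjFormLib.res E la (b a i) = _ from hr.symm, CohCmpLib.ger_sum]
      exact Finset.sum_congr rfl fun j _ => by rw [ProjFormLib.ger_smul, ProjFormLib.ger_res]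
    rw [hbi, map_sum]
    simp only [map_smul, hh]
    rw [← ProjFormLib.ger_res M la y hyV', show ProjFormLib.res M la (c a i • g a) = _ from
      (AmpleLib.res_smul M la (c a i) (g a)).trans key, CohCmpLib.ger_sum]
    refine Finset.sum_congr rfl fun j _ => ?_
    rw [ProjFormLib.ger_smul, map_mul, mul_smul, ProjFormLib.ger_smul, TopCat.Presheaf.germ_res_apply,
      ProjFormLib.ger_res]
  obtain ⟨H, hH, -⟩ := TopCat.Sheaf.existsUnique_gluing'
    ((QCohLib.toAbF X).obj (CohCmpLib.homMod E M) : TopCat.Sheaf AddCommGrpCat.{u} X.toTopCat) D ⊤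
    (fun a => homOfLE le_top) (fun x _ => Opens.mem_iSup.mpr ⟨x, hV x⟩) h
    (fun a a' => CohCmpLib.homMod_ext fun y hy => glue a a' y hy.1 hy.2)
  refine ⟨Formal2VBLib.sh H, fun h0 => ?_⟩
  have hzero : ∀ x i, c x i = 0 := fun x i => by
    have e : c x i • g x = 0 := ProjFormLib.section_ext _ _ fun y hy => by
      rw [← hh x y hy i, ← show _ = h x from hH x]
      refine (Formal2VBLib.stalk_sh H y _).symm.trans ?_
      rw [h0, Functor.map_zero, CohCmpLib.ger_zero]
      rfl
    exact (hgen x (V x).1 le_rfl).1 (a₁ := c x i) (a₂ := 0) (by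
      dsimp only; rw [AmpleLib.res_refl, zero_smul]; exact e)
  apply hs
  refine CurvLib.eq_zero_of_stalks s fun x => ?_
  haveI := QCohLib.isQCoh_unit (X := X)
  obtain ⟨d, hd⟩ := (DetDegLib.frame_bijective (V x).2 (b x) (hb x)).2 (s.app _ (g x))
  dsimp only at hd
  have hwinj : Function.Injective (w.app (V x).1) := QCohLib.app_injective_of_mono w (V x).1
  have hwz : ∀ i, DetDegLib.wsec φ (V x) ![s.app (V x).1 (g x), b x i] = (0 : Γ(L, (V x).1)) := fun i =>
    hwinj (by rw [← wed1_apply, ← hc, hzero, zero_smul, map_zero])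
  let B : Module.Basis (Fin 2) Γ(X, (V x).1) (E.val.obj (op (V x).1)) :=
    Module.Basis.ofEquivFun (LinearEquiv.ofBijective
      (Fintype.linearCombination Γ(X, (V x).1) (M := E.val.obj (op (V x).1)) (b x))
      (DetDegLib.frame_bijective (V x).2 (b x) (hb x))).symm
  have hB : ⇑B = b x := funext fun i => by simp [B]
  have hrep : ∀ j, B.repr (s.app (V x).1 (g x) : E.val.obj (op (V x).1)) j = d j := fun j => by
    have e : B.equivFun (s.app (V x).1 (g x) : E.val.obj (op (V x).1)) = d := by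
      simp only [B, Module.Basis.equivFun_ofEquivFun]
      rw [LinearEquiv.symm_apply_eq]
      exact hd.symm
    rw [← B.equivFun_apply, e]
  have hd0 : ∀ i, d i = 0 := fun i => by
    have h1 : B.det ![(s.app (V x).1 (g x) : E.val.obj (op (V x).1)), b x (1 - i)] = 0 := by
      have h2 := congrArg (fun z => exteriorPower.alternatingMapLinearEquiv B.det (φ (V x) z)) (hwz (1 - i))
      refine Eq.trans ?_ (h2.trans ((congrArg _ (map_zero (φ (V x)))).trans (map_zero _)))
      dsimp only [DetDegLib.wsec]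
      rw [LinearEquiv.apply_symm_apply]
      exact (exteriorPower.alternatingMapLinearEquiv_apply_ιMulti _ _).symm
    rw [Module.Basis.det_apply, Matrix.det_fin_two] at h1
    simp [Module.Basis.toMatrix_apply, hrep, ← hB] at h1
    fin_cases i <;> simpa [Finsupp.single_apply] using h1
  have hg0 : s.app (V x).1 (g x) = 0 := by rw [← hd]; simp [hd0]
  refine LinearMap.ext fun v => ?_
  obtain ⟨e, rfl⟩ := ((hgen x).genAt (hV x)).2 v
  dsimp only
  erw [map_smul, LinearMap.zero_apply]
  have := ProjFormLib.ger_map s x (hV x) (g x)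
  rw [hg0, CohCmpLib.ger_zero] at this
  exact (congrArg (e • ·) this).trans (smul_zero _)

end VBPnLib

end
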